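import Mathlib

/-! The p-degree [K : K^p] of fields of characteristic p. -/

set_option autoImplicit false
set_option linter.style.haveILetI false
universe u v w
open Polynomial

namespace Groth.Agent.PDegLib

/-- degree of a ring homomorphism of fields -/
noncomputable def fr {A : Type u} {B : Type v} [CommRing A] [CommRing B] (f : A →+* B) : ℕ :=
  @Module.finrank A B _ _ f.toAlgebra.toModule

theorem fr_algebraMap {A : Type u} {B : Type v} [CommRing A] [CommRing B] [Algebra A B] :
    fr (algebraMap A B) = Module.finrank A B := by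
  unfold fr
  congr 1
  exact congrArg (fun a => @Algebra.toModule A B _ _ a) (Algebra.algebra_ext _ _ fun r => rfl)

theorem fr_comp {A : Type u} {B : Type v} {C : Type w} [Field A] [Field B] [Field C] (f : A →+* B) (g : B →+* C) :
    fr (g.comp f) = fr f * fr g := by
  letI := f.toAlgebra
  letI := g.toAlgebra
  letI := (g.comp f).toAlgebra
  haveI : IsScalarTower A B C := IsScalarTower.of_algebraMap_eq fun _ => rfl
  exact (Module.finrank_mul_finrank A B C).symm

theorem fr_ringEquiv {A : Type u} {B : Type v} [Field A] [Field B] (e : A ≃+* B) : fr e.toRingHom = 1 := by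
  letI := e.toRingHom.toAlgebra
  show Module.finrank A B = 1
  rw [← Module.finrank_self A]
  exact (Algebra.finrank_eq_of_equiv_equiv (RingEquiv.refl A) e (by ext x; rfl)).symm

theorem fr_eq_finrank_range {A : Type u} {B : Type v} [Field A] [Field B] (f : A →+* B) :
    fr f = Module.finrank (↥f.fieldRange) B := by
  letI := f.toAlgebra
  show Module.finrank A B = _
  exact Algebra.finrank_eq_of_equiv_equiv f.rangeRestrictFieldEquiv (RingEquiv.refl B) (by ext x; rfl)

theorem fr_ratFunc {F : Type u} {L : Type u} [Field F] [Field L] (i : F →+* L) (hi : fr i ≠ 0)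
    (σ : RatFunc F →+* RatFunc L)
    (hσ : ∀ f : F[X], σ (algebraMap _ _ f) = algebraMap _ _ (f.map i)) : fr σ = fr i := by
  letI : Algebra F L := i.toAlgebra
  haveI : Module.Finite F L := Module.finite_of_finrank_pos (Nat.pos_of_ne_zero hi)
  haveI : Algebra.IsAlgebraic F L := Algebra.IsAlgebraic.of_finite F L
  refine Eq.trans ?_ (RatFunc.finrank_ratFunc_ratFunc F L)
  letI := Polynomial.algebra F L
  letI := RatFunc.liftAlgebra F (RatFunc L)
  refine Eq.trans ?_ fr_algebraMap
  congr 1
  refine IsLocalization.ringHom_ext (nonZeroDivisors F[X]) (RingHom.ext fun f => ?_)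
  show σ (algebraMap _ _ f) = algebraMap (RatFunc F) (RatFunc L) (algebraMap F[X] (RatFunc F) f)
  rw [hσ, ← IsScalarTower.algebraMap_apply, IsScalarTower.algebraMap_apply F[X] L[X] (RatFunc L)]
  rfl

variable (p : ℕ) [Fact p.Prime]

/-- the p-degree -/
noncomputable def d (K : Type u) [Field K] [CharP K p] : ℕ := fr (frobenius K p)

theorem d_eq_finrank (K : Type u) [Field K] [CharP K p] :
    Module.finrank (↥(frobenius K p).fieldRange) K = d p K :=
  (fr_eq_finrank_range (frobenius K p)).symm

theorem d_eq_of_finite {F : Type u} {L : Type v} [Field F] [Field L] [CharP F p] [CharP L p]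
    (i : F →+* L) (hi : fr i ≠ 0) : d p L = d p F := by
  have h : (frobenius L p).comp i = i.comp (frobenius F p) := (RingHom.frobenius_comm i p).symm
  have h2 := congrArg fr h
  rw [fr_comp, fr_comp] at h2
  have h3 : fr i * d p L = fr i * d p F := by
    rw [mul_comm (fr i) (d p F)]
    exact h2
  exact Nat.eq_of_mul_eq_mul_left (Nat.pos_of_ne_zero hi) h3

theorem d_congr {F : Type u} {L : Type v} [Field F] [Field L] [CharP F p] [CharP L p]
    (e : F ≃+* L) : d p L = d p F :=
  d_eq_of_finite p e.toRingHom (by rw [fr_ringEquiv]; exact one_ne_zero)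

theorem d_ratFunc (F : Type u) [Field F] [CharP F p] (hF : d p F ≠ 0) [CharP (RatFunc F) p] :
    d p (RatFunc F) = p * d p F := by
  have hp : 0 < p := (Fact.out : p.Prime).pos
  have hexp : Function.Injective ((algebraMap F[X] (RatFunc F)).comp (expand F p).toRingHom) :=
    (IsFractionRing.injective F[X] (RatFunc F)).comp (expand_injective hp)
  let e : RatFunc F →+* RatFunc F := IsFractionRing.lift hexp
  have he : ∀ f : F[X], e (algebraMap _ _ f) = algebraMap _ _ (expand F p f) := fun f =>
    IsFractionRing.lift_algebraMap hexp f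
  have hsig : Function.Injective ((algebraMap F[X] (RatFunc F)).comp (mapRingHom (frobenius F p))) :=
    (IsFractionRing.injective F[X] (RatFunc F)).comp (map_injective _ (frobenius F p).injective)
  let σ : RatFunc F →+* RatFunc F := IsFractionRing.lift hsig
  have hσ : ∀ f : F[X], σ (algebraMap _ _ f) = algebraMap _ _ (f.map (frobenius F p)) := fun f =>
    IsFractionRing.lift_algebraMap hsig f
  have hcomp : e.comp σ = frobenius (RatFunc F) p := by
    refine IsLocalization.ringHom_ext (nonZeroDivisors F[X]) (RingHom.ext fun f => ?_)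
    show e (σ (algebraMap _ _ f)) = (algebraMap _ _ f) ^ p
    rw [hσ, he, ← map_pow]
    congr 1
    rw [← map_frobenius_expand, Polynomial.map_expand]
  have h1 : fr e = p := by
    have key : e.fieldRange = (IntermediateField.adjoin F {(RatFunc.X : RatFunc F) ^ p}).toSubfield := by
      let ea : RatFunc F →ₐ[F] RatFunc F := ⟨e, fun c => by
        show e (algebraMap F (RatFunc F) c) = algebraMap F (RatFunc F) c
        rw [IsScalarTower.algebraMap_apply F F[X] (RatFunc F), he, Polynomial.algebraMap_eq, expand_C]⟩
      have h : (⊤ : IntermediateField F (RatFunc F)).map ea = IntermediateField.adjoin F {(RatFunc.X : RatFunc F) ^ p} := by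
        rw [← RatFunc.adjoin_X, IntermediateField.adjoin_map, Set.image_singleton]
        congr 2
        show e RatFunc.X = RatFunc.X ^ p
        rw [← RatFunc.algebraMap_X, he, expand_X, map_pow]
      rw [← h]
      ext x
      simp [ea]
    rw [fr_eq_finrank_range, key]
    refine (RatFunc.finrank_eq_max_natDegree _).trans ?_
    rw [← RatFunc.algebraMap_X, ← map_pow, RatFunc.num_algebraMap, RatFunc.denom_algebraMap, natDegree_X_pow,
      natDegree_one, max_eq_left (Nat.zero_le _)]
  have h2 : fr σ = d p F := fr_ratFunc (frobenius F p) hF σ hσ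
  unfold d
  rw [← hcomp, fr_comp, h1, h2, mul_comm]
  rfl

end Groth.Agent.PDegLib
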