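import Groth.Agent.PDegLib.Basic

/-! p-degree of finitely generated extensions; Laurent series. -/

set_option autoImplicit false
set_option linter.style.haveILetI false
universe u
open Polynomial

namespace Groth.Agent.PDegLib

variable (p : ℕ) [Fact p.Prime]

open scoped IntermediateField.algebraAdjoinAdjoin in
theorem d_adjoin (F K : Type u) [Field F] [Field K] [Algebra F K] [CharP K p] [CharP F p] (hF : d p F ≠ 0)
    (t : Finset K) (ht : AlgebraicIndepOn F id (t : Set K)) :
    d p (IntermediateField.adjoin F (t : Set K)) = p ^ t.card * d p F := by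
  classical
  induction t using Finset.induction_on with
  | empty =>
    have h : IntermediateField.adjoin F ((∅ : Finset K) : Set K) = ⊥ := by simp
    haveI : CharP (⊥ : IntermediateField F K) p := charP_of_injective_algebraMap (algebraMap F _).injective p
    rw [d_congr p ((IntermediateField.equivOfEq h).toRingEquiv).symm,
      d_congr p (IntermediateField.botEquiv F K).toRingEquiv.symm]
    simp
  | @insert a s has ih =>
    have hcoe : ((insert a s : Finset K) : Set K) = insert a (s : Set K) := Finset.coe_insert a s
    have ht' := ht
    rw [hcoe] at ht'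
    have h3 := (AlgebraicIndepOn.insert_iff (fun h => has h)).mp ht'
    have hs := h3.1
    have htr := h3.2
    rw [Set.image_id] at htr
    let M := IntermediateField.adjoin F (s : Set K)
    haveI : CharP M p := charP_of_injective_algebraMap (algebraMap F _).injective p
    have hM : d p M = p ^ s.card * d p F := ih hs
    have htrM : Transcendental M (id a) := fun h =>
      htr ((IsFractionRing.isAlgebraic_iff (Algebra.adjoin F (s : Set K)) M K).mpr h)
    haveI : CharP (RatFunc M) p := charP_of_injective_algebraMap (algebraMap M _).injective p
    let N := IntermediateField.adjoin M ({id a} : Set K)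
    haveI : CharP N p := charP_of_injective_algebraMap (algebraMap M _).injective p
    have hN : d p N = p * d p M := by
      rw [d_congr p (RatFunc.algEquivOfTranscendental (id a) htrM).toRingEquiv]
      exact d_ratFunc p M (by rw [hM]; exact mul_ne_zero (pow_ne_zero _ (Fact.out : p.Prime).ne_zero) hF)
    have heq : N.restrictScalars F = IntermediateField.adjoin F ((insert a s : Finset K) : Set K) := by
      rw [hcoe, IntermediateField.adjoin_adjoin_left, Set.union_comm, Set.singleton_union, id]
    let e : N ≃+* IntermediateField.adjoin F ((insert a s : Finset K) : Set K) :=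
      RingEquiv.subfieldCongr (congrArg IntermediateField.toSubfield heq)
    rw [d_congr p e, hN, hM, Finset.card_insert_of_notMem has, pow_succ]
    ring

theorem d_fg (F K : Type u) [Field F] [Field K] [Algebra F K] [CharP K p] [CharP F p] (hF : d p F ≠ 0)
    (hfg : (⊤ : IntermediateField F K).FG) (n : ℕ) (hn : Algebra.trdeg F K = n) :
    d p K = p ^ n * d p F := by
  obtain ⟨t, ht⟩ := exists_isTranscendenceBasis F K
  have hcard : Cardinal.mk t = n := ht.cardinalMk_eq_trdeg.trans hn
  have hfin : t.Finite := Set.finite_coe_iff.mp (Cardinal.lt_aleph0_iff_finite.mp (by rw [hcard]; exact Cardinal.natCast_lt_aleph0))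
  obtain ⟨t, rfl⟩ := hfin.exists_finset_coe
  simp only [Finset.coe_sort_coe, Cardinal.mk_coe_finset, Nat.cast_inj] at hcard
  subst hcard
  let M := IntermediateField.adjoin F (t : Set K)
  haveI : CharP M p := charP_of_injective_algebraMap (algebraMap F _).injective p
  haveI halg : Algebra.IsAlgebraic M K := by
    have := ht.isAlgebraic_field
    rw [Subtype.range_coe] at this
    exact this
  haveI : Algebra.EssFiniteType F K := (IntermediateField.fg_top_iff (F := F) (E := K)).mp hfg
  haveI : Algebra.EssFiniteType M K := Algebra.EssFiniteType.of_comp F M K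
  haveI : Module.Finite M K := Algebra.finite_of_essFiniteType_of_isAlgebraic
  rw [d_eq_of_finite p (algebraMap M K) (by rw [fr_algebraMap]; exact Module.finrank_pos.ne'),
    d_adjoin p F K hF t ht.1]

theorem d_laurent (k : Type u) [Field k] [CharP k p] [PerfectRing k p] [CharP (LaurentSeries k) p] :
    d p (LaurentSeries k) = p := by
  have hp : 0 < p := (Fact.out : p.Prime).pos
  set L := LaurentSeries k
  let t : L := HahnSeries.single (1 : ℤ) (1 : k)
  let S : Subfield L := (frobenius L p).fieldRange
  have hS : ∀ x : L, x ^ p ∈ S := fun x => ⟨x, rfl⟩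
  have hirr : Irreducible (X ^ p - C (⟨t ^ p, hS t⟩ : S)) := by
    refine X_pow_sub_C_irreducible_of_prime Fact.out fun b hb => ?_
    obtain ⟨y, hy⟩ := b.2
    have hb2 : ((y ^ p) ^ p : L) = t ^ p := by
      have := congrArg Subtype.val hb
      simpa [← hy, frobenius_def] using this
    have h3 : y ^ p = t := frobenius_inj L p hb2
    have h4 := congrArg HahnSeries.order h3
    rw [HahnSeries.order_pow, HahnSeries.order_single one_ne_zero, nsmul_eq_mul] at h4
    exact (Fact.out : p.Prime).ne_one (by exact_mod_cast Int.eq_one_of_mul_eq_one_right (Int.natCast_nonneg p) h4)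
  have hroot : aeval t (X ^ p - C (⟨t ^ p, hS t⟩ : S)) = 0 := by
    simp only [map_sub, map_pow, aeval_X, aeval_C]
    exact sub_self _
  have hmin : minpoly S t = X ^ p - C (⟨t ^ p, hS t⟩ : S) :=
    (minpoly.eq_of_irreducible_of_monic hirr hroot (monic_X_pow_sub_C _ hp.ne')).symm
  have hint : IsIntegral S t := ⟨_, monic_X_pow_sub_C _ hp.ne', hroot⟩
  have htop : IntermediateField.adjoin S ({t} : Set L) = ⊤ := by
    rw [eq_top_iff]
    intro x _
    set E := IntermediateField.adjoin S ({t} : Set L)
    have hte : t ∈ E := IntermediateField.mem_adjoin_simple_self S t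
    have hpow : ∀ y : L, y ^ p ∈ E := fun y => by
      have := E.algebraMap_mem ⟨y ^ p, hS y⟩
      exact this
    have hps : ∀ f : PowerSeries k, HahnSeries.ofPowerSeries ℤ k f ∈ E := by
      intro f
      let g : ℕ → PowerSeries k := fun i => PowerSeries.mk fun n => (frobeniusEquiv k p).symm (PowerSeries.coeff (p * n + i) f)
      have hf : f = ∑ i ∈ Finset.range p, PowerSeries.X ^ i * g i ^ p := by
        have hg : ∀ i, g i ^ p = PowerSeries.expand p hp.ne' (PowerSeries.mk fun n => PowerSeries.coeff (p * n + i) f) := by
          intro i
          have h := MvPowerSeries.map_frobenius_expand p hp.ne' (f := g i)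
          refine h.symm.trans ?_
          show PowerSeries.map (frobenius k p) (PowerSeries.expand p hp.ne' (g i)) = _
          rw [PowerSeries.map_expand]
          congr 1
          ext n
          simp [g]
        ext n
        simp only [map_sum, PowerSeries.coeff_X_pow_mul', hg, PowerSeries.coeff_expand, PowerSeries.coeff_mk]
        rw [Finset.sum_eq_single (n % p)]
        · rw [if_pos (Nat.mod_le n p), if_pos (Nat.dvd_sub_mod n)]
          congr 1
          rw [Nat.mul_div_cancel' (Nat.dvd_sub_mod n), Nat.sub_add_cancel (Nat.mod_le n p)]
        · intro i hi hne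
          split_ifs with h1 h2 <;> try rfl
          exfalso
          apply hne
          have hi' := Finset.mem_range.mp hi
          obtain ⟨c, hc⟩ := h2
          have : n = i + p * c := by omega
          rw [this, Nat.add_mul_mod_self_left, Nat.mod_eq_of_lt hi']
        · intro h
          exact absurd (Finset.mem_range.mpr (Nat.mod_lt n hp)) h
      rw [hf, map_sum]
      refine sum_mem fun i _ => ?_
      rw [map_mul, map_pow, map_pow, HahnSeries.ofPowerSeries_X]
      exact mul_mem (pow_mem hte i) (hpow _)
    have hx := LaurentSeries.single_order_mul_powerSeriesPart x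
    rw [← hx]
    refine mul_mem ?_ (hps _)
    have hzp : ∀ n : ℤ, (HahnSeries.single n (1 : k) : L) ∈ E := by
      intro n
      rw [RatFunc.single_zpow]
      exact zpow_mem hte n
    exact hzp _
  have h1 := IntermediateField.adjoin.finrank hint
  rw [htop, IntermediateField.finrank_top', hmin, natDegree_X_pow_sub_C] at h1
  rw [← d_eq_finrank]
  exact h1

end Groth.Agent.PDegLib
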